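import Cfsg.Agent.S0071
import Cfsg.Agent.S0201
import Cfsg.Agent.S0205
import Cfsg.Agent.S3116
import Cfsg.Agent.Inv54.Core
import Cfsg.Agent.PLocal.Cores
import Cfsg.Agent.FrobComp.NonSolvable
import Cfsg.Agent.MultPSL.Main
import Cfsg.Agent.SchurTheory.CoverUnique
import Mathlib.GroupTheory.SpecificGroups.KleinFour

/-!
# Quaternion Sylow 2-subgroups with cyclic intersections

A nonsolvable group with quaternion Sylow 2-subgroups meeting pairwise in cyclic groups has them
of order 8 and an `SL₂(q)`, `q ≡ 3, 5 mod 8`, of odd index modulo its core, granted the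
classification of perfect groups with dihedral Sylow 2-subgroups.
-/

set_option autoImplicit false

namespace CfsgLib.QuatIntersect

open Subgroup
open scoped Pointwise

universe u

/-- The classification of perfect groups with dihedral Sylow 2-subgroups. -/
def PerfectDihedralClassification : Prop :=
  ∀ {X : Type u} [Group X] [Finite X] [Group.IsPerfect X] (S : Sylow 2 X) (n : ℕ), 2 ≤ n →
    Nonempty ((S : Subgroup X) ≃* DihedralGroup n) →
    (∃ (F : Type) (_ : Field F) (_ : Fintype F), Odd (Fintype.card F) ∧ 3 < Fintype.card F ∧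
        Nonempty (X ⧸ Cfsg.oddCore X ≃* Matrix.ProjectiveSpecialLinearGroup (Fin 2) F)) ∨
      Nonempty (X ⧸ Cfsg.oddCore X ≃* alternatingGroup (Fin 7))

variable {G : Type u} [Group G] [Finite G]

/-- An element of odd order normalising a subgroup with a 2-group of automorphisms centralises it. -/
theorem mem_centralizer_of_aut {A : Subgroup G} (hA : IsPGroup 2 (MulAut A)) {g : G}
    (hg : Odd (orderOf g)) (hn : g ∈ normalizer (A : Set G)) : g ∈ centralizer (A : Set G) := by
  set φ := A.normalizerMonoidHom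
  obtain ⟨k, hk⟩ := hA (φ ⟨g, hn⟩)
  have h1 : orderOf (φ ⟨g, hn⟩) ∣ 2 ^ k := orderOf_dvd_of_pow_eq_one hk
  have h2 : orderOf (φ ⟨g, hn⟩) ∣ orderOf g := by
    rw [← Subgroup.orderOf_mk g hn]
    exact orderOf_map_dvd φ _
  have h3 : φ ⟨g, hn⟩ = 1 := orderOf_eq_one_iff.1 (Nat.eq_one_of_dvd_coprimes
    ((Nat.coprime_two_left.2 hg).pow_left k) h1 h2)
  have h4 : (⟨g, hn⟩ : normalizer (A : Set G)) ∈ A.normalizerMonoidHom.ker := h3
  rw [normalizerMonoidHom_ker] at h4
  exact h4

/-- The automorphisms of a quaternion group of order at least 16 form a 2-group. -/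
theorem aut_quaternion {S : Type*} [Group S] [Finite S] (m : ℕ)
    (e : S ≃* QuaternionGroup (2 ^ (m + 2))) : IsPGroup 2 (MulAut S) := by
  haveI : NeZero (2 ^ (m + 2)) := ⟨by positivity⟩
  refine IsPGroup.of_equiv ?_ (MulAut.congr e.symm)
  have hc : Nat.card (QuaternionGroup (2 ^ (m + 2))) = 2 ^ (m + 4) := by
    rw [Nat.card_eq_fintype_card, QuaternionGroup.card]; ring
  refine Cfsg.Agent.S3116.aut_two_group (x := QuaternionGroup.a 1) (y := QuaternionGroup.xa 0)
    (n := m + 3) ?_ ?_ hc ?_
  · rw [QuaternionGroup.orderOf_a_one]; ring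
  · intro hy
    have hc' : QuaternionGroup.a (n := 2 ^ (m + 2)) 1 * QuaternionGroup.xa 0 =
        QuaternionGroup.xa 0 * QuaternionGroup.a 1 := by
      obtain ⟨i, hi⟩ := hy
      rw [← hi]
      exact (Commute.zpow_right (Commute.refl _) i).eq
    rw [QuaternionGroup.a_mul_xa, QuaternionGroup.xa_mul_a] at hc'
    have h1 : ((2 : ℕ) : ZMod (2 * 2 ^ (m + 2))) = 0 := by
      have h0 := QuaternionGroup.xa.inj hc'
      push_cast
      linear_combination (norm := ring_nf) -h0
    rw [ZMod.natCast_eq_zero_iff] at h1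
    have h3 := Nat.le_of_dvd two_pos h1
    have h4 : 2 ^ (m + 2) ≥ 4 := Nat.le_trans (by norm_num : 4 ≤ 2 ^ 2)
      (Nat.pow_le_pow_right two_pos (by omega))
    omega
  · intro g hg
    cases g with
    | a j =>
      refine absurd ⟨(j.val : ℤ), ?_⟩ hg
      show QuaternionGroup.a 1 ^ ((j.val : ℕ) : ℤ) = _
      rw [zpow_natCast, QuaternionGroup.a_one_pow, ZMod.natCast_zmod_val]
    | xa j =>
      have h : QuaternionGroup.xa j ^ 4 = 1 := QuaternionGroup.xa_pow_four j
      rw [show 2 ^ (m + 3 - 1) = 4 * 2 ^ m by rw [show m + 3 - 1 = m + 2 by omega]; ring,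
        pow_mul, h, one_pow]

/-- A group with cyclic Sylow 2-subgroups has a normal odd subgroup of 2-power index. -/
theorem exists_two_complement (P : Sylow 2 G) (hP : IsCyclic (P : Subgroup G)) :
    ∃ N : Subgroup G, N.Normal ∧ N.IsComplement' (P : Subgroup G) := by
  haveI := Fact.mk Nat.prime_two
  refine (Cfsg.Agent.S0071.result P).2 fun Q hQ g hg hgc => ?_
  haveI : IsCyclic Q := Subgroup.isCyclic_of_le hQ
  exact mem_centralizer_of_aut
    (Inv54.card_mulAut_cyclic_two_group (P.isPGroup'.to_le hQ)) (Nat.coprime_two_right.1 hgc) hg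

theorem solvable_of_odd_complement {P : Sylow 2 G} {N : Subgroup G} [N.Normal]
    (hc : N.IsComplement' (P : Subgroup G)) : Group.IsSolvable G := by
  haveI := Fact.mk Nat.prime_two
  have hodd : Odd (Nat.card N) := by
    rw [← Nat.not_even_iff_odd, even_iff_two_dvd, ← hc.index_eq_card]
    exact P.not_dvd_index
  haveI : Group.IsSolvable N := Cfsg.Agent.S0205.result hodd
  have hq : IsPGroup 2 (G ⧸ N) := by
    obtain ⟨k, hk⟩ := P.isPGroup'.exists_card_eq
    exact IsPGroup.of_card (n := k) (by rw [← index_eq_card, hc.symm.index_eq_card, hk])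
  haveI := hq.isNilpotent
  exact Group.isSolvable_of_ker_le_range N.subtype (QuotientGroup.mk' N)
    (by rw [QuotientGroup.ker_mk', range_subtype])

theorem quaternion_two_facts :
    (∀ a b : QuaternionGroup 2, a * a = 1 → a ≠ 1 → b * b = 1 → b ≠ 1 → a = b) ∧
      (∀ a : QuaternionGroup 2, a * a * (a * a) = 1) ∧
      ∃ a b : QuaternionGroup 2, a * b ≠ b * a := by decide

/-- The Sylow 2-subgroups have order 8. -/
theorem sylow_eight (hns : ¬ Group.IsSolvable G)
    (hQ : ∀ S : Sylow 2 G, ∃ n : ℕ, Nonempty ((S : Subgroup G) ≃* QuaternionGroup (2 ^ (n + 1))))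
    (hC : ∀ S T : Sylow 2 G, S ≠ T → IsCyclic ↥((S : Subgroup G) ⊓ (T : Subgroup G)))
    (S : Sylow 2 G) : Nonempty ((S : Subgroup G) ≃* QuaternionGroup 2) := by
  haveI := Fact.mk Nat.prime_two
  obtain ⟨n, ⟨e⟩⟩ := hQ S
  obtain _ | m := n
  · exact ⟨e⟩
  exfalso
  by_cases h : ∀ Q : Subgroup G, Q ≤ (S : Subgroup G) → ∀ g ∈ normalizer (Q : Set G),
      Nat.Coprime (orderOf g) 2 → g ∈ centralizer (Q : Set G)
  · obtain ⟨N, hN, hc⟩ := (Cfsg.Agent.S0071.result S).2 h
    haveI := hN
    exact hns (solvable_of_odd_complement hc)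
  push Not at h
  obtain ⟨Q, hQS, g, hg, hgc, hnot⟩ := h
  have hgo : Odd (orderOf g) := Nat.coprime_two_right.1 hgc
  by_cases hS : g • S = S
  · have hgS : g ∈ normalizer ((S : Subgroup G) : Set G) := Sylow.smul_eq_iff_mem_normalizer.1 hS
    exact hnot (centralizer_le hQS (mem_centralizer_of_aut (aut_quaternion m e) hgo hgS))
  · haveI := hC _ _ hS
    have hle : Q ≤ ((g • S : Sylow 2 G) : Subgroup G) ⊓ (S : Subgroup G) := by
      refine le_inf ?_ hQS
      rw [Sylow.coe_subgroup_smul]
      refine le_trans (le_of_eq ?_) (pointwise_smul_le_pointwise_smul_iff.2 hQS)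
      exact (mem_normalizer_iff_map_conj_eq.1 hg).symm
    haveI : IsCyclic Q := Subgroup.isCyclic_of_le hle
    exact hnot (mem_centralizer_of_aut
      (Inv54.card_mulAut_cyclic_two_group (S.isPGroup'.to_le hQS)) hgo hg)

/-- The structure modulo the odd core. -/
theorem structure_mod_core (hGW : PerfectDihedralClassification.{u}) (hns : ¬ Group.IsSolvable G)
    (hQ : ∀ S : Sylow 2 G, Nonempty ((S : Subgroup G) ≃* QuaternionGroup 2))
    (hO : Cfsg.oddCore G = ⊥) :
    ∃ (N : Subgroup G), N.Normal ∧ Odd N.index ∧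
      ∃ (F : Type) (_ : Field F) (_ : Fintype F),
        (Fintype.card F % 8 = 3 ∨ Fintype.card F % 8 = 5) ∧ 3 < Fintype.card F ∧
          Nonempty (N ≃* Matrix.SpecialLinearGroup (Fin 2) F) := by
  haveI := Fact.mk Nat.prime_two
  obtain ⟨N, hN, hNnt, hNp⟩ := FrobComp.exists_perfect_residual hns
  haveI := hN
  haveI := hNnt
  haveI : Group.IsPerfect N := ⟨hNp⟩
  obtain ⟨hinv, hsq, hnc⟩ := quaternion_two_facts
  have h8 : ∀ S : Sylow 2 G, Nat.card S = 8 := fun S => by
    rw [Nat.card_congr (hQ S).some.toEquiv, Nat.card_eq_fintype_card, QuaternionGroup.card]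
  obtain ⟨T⟩ : Nonempty (Sylow 2 N) := inferInstance
  obtain ⟨S, hS⟩ := (T.isPGroup'.map N.subtype).exists_le_sylow
  have hnsolN : ¬ Group.IsSolvable N := fun h => Group.IsPerfect.not_isSolvable N h
  have hncT : ¬ IsCyclic (T : Subgroup N) := fun hc => by
    obtain ⟨K, hK, hKc⟩ := exists_two_complement T hc
    haveI := hK
    exact hnsolN (solvable_of_odd_complement hKc)
  -- the Sylow subgroups of `N` are those of `G`
  have hTS : (T : Subgroup N).map N.subtype = (S : Subgroup G) := by
    refine eq_of_le_of_card_ge hS ?_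
    obtain ⟨k, hk⟩ := T.isPGroup'.exists_card_eq
    have hle := card_dvd_of_le hS
    rw [card_map_of_injective N.subtype_injective, hk, h8 S] at hle
    rw [card_map_of_injective N.subtype_injective, hk, h8 S]
    by_contra hlt
    have hk3 : k ≤ 2 := by
      by_contra hk'
      exact hlt (le_trans (by norm_num) (Nat.pow_le_pow_right two_pos (show 3 ≤ k by omega)))
    apply hncT
    let ψ : (T : Subgroup N) →* (S : Subgroup G) :=
      ((N.subtype.comp (T : Subgroup N).subtype).codRestrict _ fun t => hS ⟨t, t.2, rfl⟩)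
    have hψ : Function.Injective ψ := fun a b h => by
      have h' := congrArg Subtype.val h
      exact Subtype.ext (Subtype.ext h')
    obtain ⟨e⟩ := hQ S
    interval_cases k
    · haveI : Subsingleton (T : Subgroup N) := (Nat.card_eq_one_iff_unique.1 hk).1
      infer_instance
    · exact isCyclic_of_prime_card (p := 2) hk
    · by_contra hcy
      have hexp : ∀ t : (T : Subgroup N), t * t = 1 := by
        intro t
        by_contra ht
        apply hcy
        have hd : orderOf t ∣ 4 := by rw [← show Nat.card (T : Subgroup N) = 4 from hk]; exact orderOf_dvd_natCard t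
        have h2 : ¬ orderOf t ∣ 2 := fun h => ht (by rw [← pow_two]; exact orderOf_dvd_iff_pow_eq_one.1 h)
        have h4 : orderOf t = 4 := by
          have := Nat.le_of_dvd (by norm_num) hd
          interval_cases hh : orderOf t <;> omega
        exact isCyclic_of_orderOf_eq_card t (h4.trans hk.symm)
      have hsub : ∀ a b : (T : Subgroup N), a ≠ 1 → b ≠ 1 → a = b := fun a b ha hb =>
        hψ (e.injective (hinv _ _ (by rw [← map_mul, ← map_mul, hexp, map_one, map_one])
          (fun h => ha (hψ (by rw [map_one]; exact e.injective (by rw [h, map_one]))))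
          (by rw [← map_mul, ← map_mul, hexp, map_one, map_one])
          (fun h => hb (hψ (by rw [map_one]; exact e.injective (by rw [h, map_one]))))))
      haveI := Fintype.ofFinite (T : Subgroup N)
      classical
      have hc2 : Fintype.card (T : Subgroup N) ≤ 2 := by
        by_cases h : ∃ a : (T : Subgroup N), a ≠ 1
        · obtain ⟨a, ha⟩ := h
          rw [← Finset.card_univ]
          refine (Finset.card_le_card (t := {1, a}) fun b _ => ?_).trans Finset.card_le_two
          by_cases hb : b = 1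
          · simp [hb]
          · simp [hsub b a hb ha]
        · push Not at h
          rw [← Finset.card_univ]
          refine (Finset.card_le_card (t := {1}) fun b _ => by simp [h b]).trans (by simp)
      rw [← Nat.card_eq_fintype_card, hk] at hc2
      omega
  have hindex : Odd N.index := by
    rw [← Nat.not_even_iff_odd, even_iff_two_dvd]
    exact fun h => S.not_dvd_index (h.trans (index_dvd_of_le (hTS ▸ map_subtype_le _)))
  -- the central involution
  obtain ⟨eS⟩ := hQ S
  have hZ : Nat.card (center G) = 2 := Cfsg.Agent.S0201.result S 0 eS fun K hK hodd => by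
    haveI := hK
    rw [← le_bot_iff, ← hO]
    exact le_sSup ⟨hK, Nat.coprime_two_right.2 hodd⟩
  have hZS : center G ≤ (S : Subgroup G) := by
    obtain ⟨S', hS'⟩ := (IsPGroup.of_card (n := 1) (by rw [hZ]; norm_num) : IsPGroup 2 (center G)).exists_le_sylow
    obtain ⟨g, rfl⟩ := MulAction.exists_smul_eq G S' S
    rw [Sylow.coe_subgroup_smul]
    intro z hz
    exact ⟨z, hS' hz, show g * z * g⁻¹ = z by rw [mem_center_iff.1 hz g, mul_inv_cancel_right]⟩
  have hZN : center G ≤ N := hZS.trans (hTS ▸ map_subtype_le _)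
  set Zn := (center G).subgroupOf N
  have hZn : Nat.card Zn = 2 := (Nat.card_congr (subgroupOfEquivOfLe hZN).toEquiv).trans hZ
  have hZnc : Zn ≤ center N := fun z hz => mem_center_iff.2 fun y => Subtype.ext
    (mem_center_iff.1 (mem_subgroupOf.1 hz) (y : G))
  set π := QuotientGroup.mk' Zn
  haveI : Group.IsPerfect (N ⧸ Zn) := Group.IsPerfect.ofSurjective (QuotientGroup.mk'_surjective _)
  set T' : Sylow 2 (N ⧸ Zn) := T.mapSurjective (QuotientGroup.mk'_surjective Zn)
  have hZT : Zn ≤ (T : Subgroup N) := fun z hz => by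
    have h : (z : G) ∈ (T : Subgroup N).map N.subtype := hTS.symm ▸ hZS (mem_subgroupOf.1 hz)
    obtain ⟨t, ht, e⟩ := h
    rwa [show z = t from (Subtype.ext e).symm]
  have hTc : Nat.card (T : Subgroup N) = 8 := by
    rw [← h8 S, ← card_map_of_injective N.subtype_injective, hTS]
  have hT'c : Nat.card T' = 4 := by
    show Nat.card ((T : Subgroup N).map π) = 4
    have h := card_mul_index (π.subgroupMap (T : Subgroup N)).ker
    rw [index_ker, MonoidHom.range_eq_top.2 (π.subgroupMap_surjective _), card_top, hTc] at h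
    have hk : Nat.card (π.subgroupMap (T : Subgroup N)).ker = 2 := by
      refine Eq.trans ?_ ((Nat.card_congr (subgroupOfEquivOfLe hZT).toEquiv).trans hZn)
      congr! 2
      ext t
      rw [MonoidHom.mem_ker, mem_subgroupOf]
      constructor
      · intro ht
        exact (QuotientGroup.eq_one_iff _).1 (congrArg Subtype.val ht)
      · intro ht
        exact Subtype.ext ((QuotientGroup.eq_one_iff _).2 ht)
    rw [hk] at h
    omega
  have hT'e : ∀ q : (T' : Subgroup (N ⧸ Zn)), q * q = 1 := by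
    rintro ⟨q, t, ht, rfl⟩
    apply Subtype.ext
    show π t * π t = 1
    rw [← map_mul]
    refine (QuotientGroup.eq_one_iff _).2 (mem_subgroupOf.2 ?_)
    show (t : G) * t ∈ center G
    obtain ⟨z, hz, hz1⟩ : ∃ z ∈ center G, z ≠ 1 := by
      haveI : Nontrivial (center G) := Finite.one_lt_card_iff_nontrivial.1 (by rw [hZ]; norm_num)
      obtain ⟨z, hz⟩ := exists_ne (1 : center G)
      exact ⟨z, z.2, fun h => hz (Subtype.ext h)⟩
    set ts : (S : Subgroup G) := ⟨t, hTS ▸ ⟨t, ht, rfl⟩⟩
    set zs : (S : Subgroup G) := ⟨z, hZS hz⟩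
    by_cases h1 : ts * ts = 1
    · rw [show (t : G) * t = 1 from congrArg Subtype.val h1]; exact one_mem _
    · have hz2 : z * z = 1 := by
        have : (⟨z, hz⟩ : center G) ^ Nat.card (center G) = 1 := pow_card_eq_one'
        rw [hZ, pow_two] at this
        exact congrArg Subtype.val this
      have := eS.injective (hinv (eS (ts * ts)) (eS zs)
        (by rw [map_mul]; exact hsq _)
        (fun h => h1 (eS.injective (by rw [h, map_one])))
        (by rw [← map_mul, show zs * zs = 1 from Subtype.ext hz2, map_one])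
        (fun h => hz1 (congrArg Subtype.val (show zs = 1 from eS.injective (by rw [h, map_one])))))
      rw [show (t : G) * t = z from congrArg Subtype.val this]
      exact hz
  haveI : IsKleinFour (T' : Subgroup (N ⧸ Zn)) := by
    refine ⟨hT'c, ?_⟩
    refine (Nat.prime_two.eq_one_or_self_of_dvd _ (Monoid.exponent_dvd_of_forall_pow_eq_one
      fun q => by rw [pow_two]; exact hT'e q)).resolve_left fun h => ?_
    haveI := Monoid.exp_eq_one_iff.1 h
    rw [Nat.card_of_subsingleton (1 : (T' : Subgroup (N ⧸ Zn)))] at hT'c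
    omega
  -- the core of the quotient is trivial
  have hOY : Cfsg.oddCore (N ⧸ Zn) = ⊥ := by
    set P0 := (Cfsg.oddCore (N ⧸ Zn)).comap π
    have hodd : Odd (Nat.card (Cfsg.oddCore (N ⧸ Zn))) := Inv54.odd_card_oddCore
    obtain ⟨P⟩ : Nonempty (Sylow 2 P0) := inferInstance
    let f : P0 →* Cfsg.oddCore (N ⧸ Zn) := π.subgroupComap _
    have hf : Function.Surjective f := fun y => by
      obtain ⟨x, hx⟩ := QuotientGroup.mk'_surjective Zn (y : N ⧸ Zn)
      exact ⟨⟨x, show π x ∈ _ by rw [hx]; exact y.2⟩, Subtype.ext hx⟩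
    have hPk : (P : Subgroup P0) ≤ f.ker := by
      intro x hx
      obtain ⟨k, hk⟩ := P.isPGroup' ⟨x, hx⟩
      have h1 : orderOf (f x) ∣ 2 ^ k := by
        refine (orderOf_map_dvd f x).trans (orderOf_dvd_of_pow_eq_one ?_)
        exact congrArg Subtype.val hk
      exact orderOf_eq_one_iff.1 (Nat.eq_one_of_dvd_coprimes
        ((Nat.coprime_two_left.2 hodd).pow_left k) h1 (orderOf_dvd_natCard _))
    have hPc : IsCyclic (P : Subgroup P0) := by
      let j : (P : Subgroup P0) →* Zn :=
        (P0.subtype.comp (P : Subgroup P0).subtype).codRestrict _ fun x =>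
          (QuotientGroup.eq_one_iff _).1 (congrArg Subtype.val (hPk x.2))
      haveI : IsCyclic Zn := isCyclic_of_prime_card (p := 2) hZn
      exact isCyclic_of_injective j fun a b h => by
        have h' := congrArg Subtype.val h
        exact Subtype.ext (Subtype.ext h')
    obtain ⟨K, hK, hKc⟩ := exists_two_complement P hPc
    haveI := hK
    haveI : P0.Normal := inferInstance
    set K' := K.map P0.subtype
    have hKbot : K' = ⊥ := by
      have hNO : Cfsg.pPrimeCore 2 N = ⊥ := by
        rw [← map_eq_bot_iff_of_injective _ N.subtype_injective, ← le_bot_iff, ← hO]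
        exact PLocal.pPrimeCore_map_subtype_le N
      rw [← le_bot_iff, ← hNO]
      refine PLocal.le_pPrimeCore_of_le_isSubnormal
        (Subgroup.Normal.isSubnormal (inferInstance : P0.Normal)) _ (map_subtype_le _) ?_ ?_
      · intro g hg
        rw [mem_normalizer_iff]
        intro x
        constructor
        · rintro ⟨y, hy, rfl⟩
          exact ⟨⟨g, hg⟩ * y * ⟨g, hg⟩⁻¹, hK.conj_mem y hy _, rfl⟩
        · rintro ⟨y, hy, e⟩
          refine ⟨⟨g, hg⟩⁻¹ * y * ⟨g, hg⟩, by simpa using hK.conj_mem y hy ⟨g, hg⟩⁻¹, ?_⟩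
          show g⁻¹ * (y : N) * g = x
          rw [show (y : N) = g * x * g⁻¹ from e]; group
      · rw [card_map_of_injective P0.subtype_injective, ← hKc.index_eq_card]
        exact ((Nat.prime_two.coprime_iff_not_dvd).2 P.not_dvd_index).symm
    have hKb : K = ⊥ := (map_eq_bot_iff_of_injective _ P0.subtype_injective).1 hKbot
    have hP0 : IsPGroup 2 P0 := by
      obtain ⟨k, hk⟩ := P.isPGroup'.exists_card_eq
      refine IsPGroup.of_card (n := k) ?_
      rw [← hk, ← hKc.card_mul, hKb, card_bot, one_mul]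
    have h2 := hP0.of_surjective f hf
    exact eq_bot_of_card_eq _ (Nat.eq_one_of_dvd_coprimes
      ((Nat.coprime_two_left.2 hodd).pow_left _) (IsPGroup.iff_card.1 h2).choose_spec.dvd dvd_rfl)
  let eY : (N ⧸ Zn) ⧸ Cfsg.oddCore (N ⧸ Zn) ≃* N ⧸ Zn :=
    (QuotientGroup.quotientMulEquivOfEq hOY).trans QuotientGroup.quotientBot
  have hYcard : Nat.card (N ⧸ Zn) % 8 = 4 := by
    have h1 := card_mul_index (T' : Subgroup (N ⧸ Zn))
    have h2 := T'.not_dvd_index
    rw [show Nat.card (T' : Subgroup (N ⧸ Zn)) = 4 from hT'c] at h1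
    omega
  rcases hGW T' 2 le_rfl IsKleinFour.nonempty_mulEquiv with ⟨F, _, _, hF, hF3, ⟨e⟩⟩ | ⟨⟨e⟩⟩
  swap
  · rw [Nat.card_congr (eY.symm.trans e).toEquiv, nat_card_alternatingGroup,
      Nat.card_eq_fintype_card, Fintype.card_fin] at hYcard
    norm_num [Nat.factorial] at hYcard
  set eP := eY.symm.trans e
  set q := Fintype.card F
  have hq := Linear.card_PSL_two_odd (F := F) hF
  rw [← Nat.card_congr eP.toEquiv] at hq
  have hq8 : q % 8 = 3 ∨ q % 8 = 5 := by
    have hodd : q % 2 = 1 := Nat.odd_iff.1 hF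
    by_contra hcon
    have hs : (q ^ 2 - 1) % 16 = 0 := by
      have hh : q % 8 = 1 ∨ q % 8 = 7 := by omega
      obtain ⟨j, hj⟩ : ∃ j, q = 8 * j + 1 ∨ q = 8 * j + 7 := ⟨q / 8, by omega⟩
      rcases hj with hj | hj
      · rw [hj, show (8 * j + 1) ^ 2 = 16 * (4 * j ^ 2 + j) + 1 by ring]; omega
      · rw [hj, show (8 * j + 7) ^ 2 = 16 * (4 * j ^ 2 + 7 * j + 3) + 1 by ring]; omega
    have h16 : 16 ∣ 2 * Nat.card (N ⧸ Zn) := by
      rw [hq]; exact Dvd.dvd.mul_left (Nat.dvd_of_mod_eq_zero hs) q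
    omega
  -- identification with the double cover
  have hperfSL : commutator (Matrix.SpecialLinearGroup (Fin 2) F) = ⊤ :=
    WordLaws.commutator_SL2 (by omega)
  let σ₁ : N →* Matrix.ProjectiveSpecialLinearGroup (Fin 2) F := eP.toMonoidHom.comp π
  have hσ₁k : σ₁.ker = Zn := by
    ext x
    rw [MonoidHom.mem_ker]
    show eP (π x) = 1 ↔ _
    rw [map_eq_one_iff _ eP.injective]
    exact QuotientGroup.eq_one_iff x
  have hs₁ : Cfsg.IsStemExtension σ₁ :=
    ⟨eP.surjective.comp (QuotientGroup.mk'_surjective _), hσ₁k.trans_le hZnc,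
      by rw [hNp]; exact le_top⟩
  set σ₂ := QuotientGroup.mk' (center (Matrix.SpecialLinearGroup (Fin 2) F))
  have hs₂ : Cfsg.IsStemExtension σ₂ := MultPSL.isStemExtension_mk hperfSL
  have hk₂ : Nat.card σ₂.ker = 2 := by
    rw [QuotientGroup.ker_mk']
    have h := card_mul_index (center (Matrix.SpecialLinearGroup (Fin 2) F))
    rw [index_eq_card, Linear.card_SL_two, ← Linear.card_PSL_two_odd hF] at h
    exact Nat.eq_of_mul_eq_mul_right Nat.card_pos h
  have hM := MultPSL.hasCyclicSchurMultiplier_PSL (F := F) 2 le_rfl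
    (fun _ => ⟨by omega, by omega⟩) (by omega) (by omega)
  have hg : Nat.gcd 2 (q - 1) = 2 := Nat.gcd_eq_left (by have := Nat.odd_iff.1 hF; omega)
  rw [hg] at hM
  obtain ⟨hMc, hM2⟩ := SchurTheory.hasCyclicSchurMultiplier_iff.1 hM
  haveI := hMc
  haveI : IsCyclic σ₁.ker := isCyclic_of_prime_card (p := 2) (by rw [hσ₁k]; exact hZn)
  haveI : IsCyclic σ₂.ker := isCyclic_of_prime_card (p := 2) hk₂
  obtain ⟨eN, -⟩ := SchurTheory.exists_iso_of_coprime
    (by
      have hab : commutator (Matrix.ProjectiveSpecialLinearGroup (Fin 2) F) = ⊤ :=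
        MultPSL.commutator_PSL_two (by omega)
      rw [show Nat.card (Abelianization (Matrix.ProjectiveSpecialLinearGroup (Fin 2) F)) = 1 from
        (index_eq_card _).symm.trans (by rw [hab, index_top])]
      exact Nat.coprime_one_left _)
    σ₁ σ₂ hs₁ hs₂ (mulEquivOfCyclicCardEq (by rw [hσ₁k, hZn, hM2]))
    (mulEquivOfCyclicCardEq (hk₂.trans hM2.symm))
  exact ⟨N, hN, hindex, F, inferInstance, inferInstance, hq8, by omega, ⟨eN⟩⟩

/-- The statement of `S3307`, granted the classification. -/
theorem main (hGW : PerfectDihedralClassification.{u}) (hns : ¬ Group.IsSolvable G)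
    (hQ : ∀ S : Sylow 2 G, ∃ n : ℕ, Nonempty (↥(S : Subgroup G) ≃* QuaternionGroup (2 ^ (n + 1))))
    (hC : ∀ S T : Sylow 2 G, S ≠ T → IsCyclic ↥((S : Subgroup G) ⊓ (T : Subgroup G))) :
    (∀ S : Sylow 2 G, Nonempty (↥(S : Subgroup G) ≃* QuaternionGroup 2)) ∧
    ∃ (G₁ : Subgroup G) (_ : G₁.Normal) (_ : ((Cfsg.oddCore G).subgroupOf G₁).Normal),
      Odd G₁.index ∧ Cfsg.oddCore G ≤ G₁ ∧
      ∃ (F : Type) (_ : Field F) (_ : Fintype F), (Fintype.card F % 8 = 3 ∨ Fintype.card F % 8 = 5) ∧ 3 < Fintype.card F ∧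
        Nonempty (↥G₁ ⧸ (Cfsg.oddCore G).subgroupOf G₁ ≃* Matrix.SpecialLinearGroup (Fin 2) F) := by
  haveI := Fact.mk Nat.prime_two
  have h1 := sylow_eight hns hQ hC
  refine ⟨h1, ?_⟩
  set O := Cfsg.oddCore G
  haveI : O.Normal := inferInstanceAs (Cfsg.pPrimeCore 2 G).Normal
  set π := QuotientGroup.mk' O
  have hodd : Odd (Nat.card O) := Inv54.odd_card_oddCore
  have hns' : ¬ Group.IsSolvable (G ⧸ O) := fun h => hns (by
    haveI : Group.IsSolvable O := Cfsg.Agent.S0205.result hodd
    exact Group.isSolvable_of_ker_le_range O.subtype π (by rw [QuotientGroup.ker_mk', range_subtype]))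
  have hQ' : ∀ S : Sylow 2 (G ⧸ O), Nonempty ((S : Subgroup (G ⧸ O)) ≃* QuaternionGroup 2) := by
    intro S
    obtain ⟨P, rfl⟩ := Sylow.mapSurjective_surjective (QuotientGroup.mk'_surjective O) 2 S
    obtain ⟨e⟩ := h1 P
    refine ⟨(MulEquiv.ofBijective (π.subgroupMap (P : Subgroup G)) ⟨?_, π.subgroupMap_surjective _⟩).symm.trans e⟩
    rw [← MonoidHom.ker_eq_bot_iff]
    refine eq_bot_iff.2 fun x hx => ?_
    have hxO : (x : G) ∈ O := (QuotientGroup.eq_one_iff _).1 (congrArg Subtype.val hx)
    obtain ⟨k, hk⟩ := P.isPGroup' x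
    have h1' : orderOf x ∣ 2 ^ k := orderOf_dvd_of_pow_eq_one hk
    have h2' : orderOf x ∣ Nat.card O := by
      rw [← Subgroup.orderOf_coe]
      exact Subgroup.orderOf_dvd_natCard O hxO
    rw [mem_bot, ← orderOf_eq_one_iff]
    exact Nat.eq_one_of_dvd_coprimes ((Nat.coprime_two_left.2 hodd).pow_left k) h1' h2'
  obtain ⟨N, hN, hidx, F, iF, iF', hq, hq3, ⟨e⟩⟩ := structure_mod_core hGW hns' hQ'
    (PLocal.pPrimeCore_quotient_pPrimeCore_eq_bot 2 G)
  set G₁ := N.comap π
  let g : G₁ →* N := π.subgroupComap N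
  have hg : Function.Surjective g := fun y => by
    obtain ⟨x, hx⟩ := QuotientGroup.mk'_surjective O (y : G ⧸ O)
    exact ⟨⟨x, show π x ∈ N by rw [hx]; exact y.2⟩, Subtype.ext hx⟩
  have hk : O.subgroupOf G₁ = g.ker := by
    ext x
    rw [mem_subgroupOf, MonoidHom.mem_ker]
    constructor
    · exact fun hx => Subtype.ext ((QuotientGroup.eq_one_iff _).2 hx)
    · exact fun hx => (QuotientGroup.eq_one_iff _).1 (congrArg Subtype.val hx)
  refine ⟨G₁, inferInstance, inferInstance, ?_, fun x hx => ?_, F, iF, iF', hq, hq3,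
    ⟨((QuotientGroup.quotientMulEquivOfEq hk).trans
      (QuotientGroup.quotientKerEquivOfSurjective g hg)).trans e⟩⟩
  · rw [index_comap_of_surjective _ (QuotientGroup.mk'_surjective O)]
    exact hidx
  · rw [mem_comap, show π x = 1 from (QuotientGroup.eq_one_iff _).2 hx]
    exact one_mem _

end CfsgLib.QuatIntersect
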